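import Groth.Agent.PicDefLib.Restrict
import Groth.Agent.ConormalLib.Chart
import Groth.Agent.DCohLib.StalkTensor
import Groth.Agent.DCohLib.Pullback
import Groth.Agent.AmpleLib.Pullback
import Groth.Agent.AmpleLib.Tensor
import Groth.Agent.CurveLib.TensorExact
import Groth.Agent.FormalLib.ProperSupport
import Groth.Agent.FormalSysLib.Sections
import Groth.Agent.SerreAff.Free
import Groth.Agent.PullbackMod.LocFree
import Mathlib.Algebra.Homology.DerivedCategory.Ext.ExactSequences

/-!
# Homomorphisms of locally free modules along a square zero thickening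
-/

set_option autoImplicit false
set_option backward.isDefEq.respectTransparency false
set_option linter.style.haveILetI false

universe u

open CategoryTheory CategoryTheory.Limits AlgebraicGeometry TopologicalSpace Opposite
open Groth.Agent.PullbackMod Groth.Agent.DCohLib
open scoped TensorProduct

noncomputable section

namespace Groth.Agent.ModLiftLib

variable {X : Scheme.{u}} (I : X.IdealSheafData)

/-- The restriction of a module to the closed subscheme, as a module on the whole. -/
abbrev η (F : X.Modules) :=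
  (Scheme.Modules.pullbackPushforwardAdjunction I.subschemeι).unit.app F

/-- The map of the tensor product with the ideal. -/
abbrev φ (F : X.Modules) : DCohLib.tmod (ClSub.idealMod I) F ⟶ F :=
  (((DCoh.tensorBi (X := X)).map (ClSub.idealModι I)).app F) ≫ (AmpleLib.unitL F).hom

theorem app_η_eq_zero_iff (F : X.Modules) [Coh.IsQCoh F] {U : X.Opens} (hU : IsAffineOpen U) (s : Γ(F, U)) :
    (η I F).app U s = 0 ↔ s ∈ (RingHom.ker (I.subschemeι.app U).hom • ⊤ : Submodule Γ(X, U) Γ(F, U)) := by
  rw [← (ConormalLib.pullMap_surjective_and_eq_zero_iff I.subschemeι hU (hU.preimage _)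
    (I.subschemeι.app_surjective U hU) F).2 s]
  have h : PullbackMod.pullMap I.subschemeι F (W := U) (W' := I.subschemeι ⁻¹ᵁ U) le_rfl s = (η I F).app U s := by
    show ((Scheme.Modules.pullback I.subschemeι).obj F).presheaf.map (𝟙 _).op _ = _
    rw [op_id, CategoryTheory.Functor.map_id]
    rfl
  rw [h]

theorem epi_η (F : X.Modules) [Coh.IsQCoh F] : Epi (η I F) := by
  refine FormalSys.epi_of_affine _ fun U hU z => ?_
  obtain ⟨s, hs⟩ := (ConormalLib.pullMap_surjective_and_eq_zero_iff I.subschemeι hU (hU.preimage _)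
    (I.subschemeι.app_surjective U hU) F).1 z
  refine ⟨s, ?_⟩
  rw [← hs]
  show _ = ((Scheme.Modules.pullback I.subschemeι).obj F).presheaf.map (𝟙 _).op _
  rw [op_id, CategoryTheory.Functor.map_id]
  rfl

/-- The stalk of the map from the tensor product, on pure tensors. -/
theorem exists_stalk_φ (F : X.Modules) (x : X) :
    ∃ θ : F.presheaf.stalk x ≃ₗ[X.presheaf.stalk x] F.presheaf.stalk x, ∀ (U : X.Opens) (hx : x ∈ U)
      (j : Γ(ClSub.idealMod I, U)) (m : F.presheaf.stalk x),
      stalkLin (φ I F) x (stalkTensor x _ F ((ClSub.idealMod I).presheaf.germ U x hx j ⊗ₜ m)) =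
        X.presheaf.germ U x hx (OmegaSh.idealSect I U j) • θ m := by
  let u : (Coh.structureModule X).presheaf.stalk x ⊗[X.presheaf.stalk x] F.presheaf.stalk x ≃ₗ[X.presheaf.stalk x]
      F.presheaf.stalk x :=
    (stalkTensor x (Coh.structureModule X) F).trans
      (LinearEquiv.ofBijective (stalkLin (AmpleLib.unitL F).hom x) ((isIso_iff_stalk _).1 inferInstance x))
  let one : Γ(Coh.structureModule X, ⊤) := (1 : Γ(X, ⊤))
  have hone : ParaFLib.Gen (L := Coh.structureModule X) ⊤ one := fun O hO => by
    have e : ∀ r : Γ(X, O), r • (Coh.structureModule X).presheaf.map (homOfLE hO).op one = (r : Γ(Coh.structureModule X, O)) := fun r => by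
      show r * X.presheaf.map (homOfLE hO).op (1 : Γ(X, ⊤)) = r
      rw [map_one, mul_one]
    exact (funext e : (fun r : Γ(X, O) => r • (Coh.structureModule X).presheaf.map (homOfLE hO).op one) = fun r => r) ▸
      Function.bijective_id
  let e1 := (Coh.structureModule X).presheaf.germ ⊤ x trivial one
  let ρ : X.presheaf.stalk x ≃ₗ[X.presheaf.stalk x] (Coh.structureModule X).presheaf.stalk x :=
    LinearEquiv.ofBijective (LinearMap.toSpanSingleton _ _ e1) (hone.bijective_germ x trivial)
  refine ⟨((TensorProduct.lid _ _).symm.trans (ρ.rTensor _)).trans u, fun U hx j m => ?_⟩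
  rw [φ, stalkLin_comp, LinearMap.comp_apply, stalkTensor_natural_left, LinearMap.rTensor_tmul, stalkLin_germ]
  have h : (Coh.structureModule X).presheaf.germ U x hx ((ClSub.idealModι I).app U j) =
      X.presheaf.germ U x hx (OmegaSh.idealSect I U j) • e1 := by
    rw [show e1 = (Coh.structureModule X).presheaf.germ U x hx ((Coh.structureModule X).presheaf.map
      (homOfLE (le_top : U ≤ ⊤)).op one) from (TopCat.Presheaf.germ_res_apply _ _ x hx one).symm, ← ParaFLib.germ_smul']
    congr 1
    show OmegaSh.idealSect I U j = OmegaSh.idealSect I U j * X.presheaf.map (homOfLE (le_top : U ≤ ⊤)).op (1 : Γ(X, ⊤))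
    rw [map_one, mul_one]
  rw [h]
  show u ((X.presheaf.germ U x hx (OmegaSh.idealSect I U j) • e1) ⊗ₜ m) =
    _ • u (ρ.rTensor _ ((TensorProduct.lid _ _).symm m))
  rw [← TensorProduct.smul_tmul', u.map_smul]
  refine congrArg (fun t => _ • t) (congrArg u ?_)
  simp [ρ]

theorem mono_φ (F : X.Modules) (hF : FlatMod.IsFinLocFree F) : Mono (φ I F) := by
  haveI : Mono (ClSub.idealModι I) := inferInstanceAs (Mono (kernel.ι _))
  haveI : Mono (((DCoh.tensorBi (X := X)).map (ClSub.idealModι I)).app F) := by
    refine (mono_iff_stalk _).2 fun x => ?_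
    intro a b hab
    obtain ⟨a, rfl⟩ := (stalkTensor x (ClSub.idealMod I) F).surjective a
    obtain ⟨b, rfl⟩ := (stalkTensor x (ClSub.idealMod I) F).surjective b
    rw [stalkTensor_natural_left, stalkTensor_natural_left] at hab
    haveI : Module.Flat (X.presheaf.stalk x) (F.presheaf.stalk x) := PullbackMod.isFlat_of_isFinLocFree F hF x
    exact congrArg _ (Module.Flat.rTensor_preserves_injective_linearMap (stalkLin (ClSub.idealModι I) x)
      ((mono_iff_stalk _).1 inferInstance x) ((stalkTensor x _ F).injective hab))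
  infer_instance

theorem φ_η (F : X.Modules) [Coh.IsQCoh F] : φ I F ≫ η I F = 0 := by
  refine (eq_zero_iff_stalk _).2 fun x => LinearMap.ext fun z => ?_
  obtain ⟨θ, hθ⟩ := exists_stalk_φ I F x
  obtain ⟨z, rfl⟩ := (stalkTensor x (ClSub.idealMod I) F).surjective z
  rw [LinearMap.zero_apply]
  induction z using TensorProduct.induction_on with
  | zero => rw [map_zero, map_zero]
  | add a b ha hb => rw [map_add, map_add, ha, hb, add_zero]
  | tmul a m =>
    obtain ⟨U, hx, j, rfl⟩ := TopCat.Presheaf.exists_germ_eq (ClSub.idealMod I).presheaf a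
    obtain ⟨V, hxV, n, hn⟩ := TopCat.Presheaf.exists_germ_eq F.presheaf (θ m)
    obtain ⟨_, ⟨W : X.Opens, hW, rfl⟩, hxW, hWle⟩ :=
      X.isBasis_affineOpens.exists_subset_of_mem_open (show x ∈ U ⊓ V from ⟨hx, hxV⟩) (U ⊓ V).2
    have hle1 : W ≤ U := fun y hy => (hWle hy).1
    have hle2 : W ≤ V := fun y hy => (hWle hy).2
    rw [stalkLin_comp, LinearMap.comp_apply, hθ, ← hn,
      ← TopCat.Presheaf.germ_res_apply X.presheaf (homOfLE hle1) x hxW,
      ← TopCat.Presheaf.germ_res_apply F.presheaf (homOfLE hle2) x hxW, ← ParaFLib.germ_smul', stalkLin_germ]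
    refine (congrArg _ ((app_η_eq_zero_iff I F hW _).2 (Submodule.smul_mem_smul ?_ trivial))).trans (map_zero _)
    rw [RingHom.mem_ker]
    show (X.presheaf.map (homOfLE hle1).op ≫ I.subschemeι.app W) (OmegaSh.idealSect I U j) = 0
    rw [I.subschemeι.naturality, CommRingCat.comp_apply,
      show I.subschemeι.app U (OmegaSh.idealSect I U j) = 0 from congr($(kernel.condition (ClSub.toSubscheme I)).app U j),
      map_zero]

/-- The ideal times the module is the kernel of restriction. -/
theorem exists_kernel_iso (F : X.Modules) (hF : FlatMod.IsFinLocFree F) :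
    Nonempty (DCohLib.tmod (ClSub.idealMod I) F ≅ kernel (η I F)) := by
  haveI := (isQCoh_and_isFP_of_isFinLocFree F hF).1
  haveI := mono_φ I F hF
  let l := kernel.lift (η I F) (φ I F) (φ_η I F)
  haveI : IsIso l := by
    refine (isIso_iff_stalk l).2 fun x => ⟨?_, fun z => ?_⟩
    · have hm : Function.Injective (stalkLin (l ≫ kernel.ι (η I F)) x) := by
        rw [kernel.lift_ι]; exact (mono_iff_stalk _).1 inferInstance x
      rw [stalkLin_comp] at hm
      exact Function.Injective.of_comp hm
    · obtain ⟨θ, hθ⟩ := exists_stalk_φ I F x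
      obtain ⟨V, hxV, s, rfl⟩ := TopCat.Presheaf.exists_germ_eq (kernel (η I F)).presheaf z
      obtain ⟨_, ⟨W : X.Opens, hW, rfl⟩, hxW, hWle⟩ :=
        X.isBasis_affineOpens.exists_subset_of_mem_open (show x ∈ V from hxV) V.2
      rw [← TopCat.Presheaf.germ_res_apply (kernel (η I F)).presheaf (homOfLE hWle) x hxW]
      let t := (kernel (η I F)).presheaf.map (homOfLE hWle).op s
      have hinj : Function.Injective (stalkLin (kernel.ι (η I F)) x) := (mono_iff_stalk _).1 inferInstance x
      have key : ∀ v : Γ(F, W), v ∈ (RingHom.ker (I.subschemeι.app W).hom • ⊤ : Submodule Γ(X, W) Γ(F, W)) →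
          ∃ y, stalkLin (φ I F) x y = F.presheaf.germ W x hxW v := fun v hv => by
        refine Submodule.smul_induction_on hv (fun a ha m _ => ?_) fun a b ⟨ya, hya⟩ ⟨yb, hyb⟩ =>
          ⟨ya + yb, by rw [map_add, map_add, hya, hyb]⟩
        haveI : QuasiCompact I.subschemeι := inferInstance
        have ha' : I.subschemeι.app W a = 0 := ha
        obtain ⟨j, hj⟩ : ∃ j, OmegaSh.idealSect I W j = a :=
          ⟨OmegaSh.kerLift (ClSub.toSubscheme I) W (OmegaSh.strSect X W a)
            ((OmegaSh.toSubscheme_app_strSect W I a).trans ha'), OmegaSh.ι_kerLift _ _ _ _⟩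
        exact ⟨stalkTensor x _ F ((ClSub.idealMod I).presheaf.germ W x hxW j ⊗ₜ θ.symm (F.presheaf.germ W x hxW m)),
          by rw [hθ, hj, LinearEquiv.apply_symm_apply, ParaFLib.germ_smul']⟩
      obtain ⟨y, hy⟩ := key _ ((app_η_eq_zero_iff I F hW _).1
        (congr($(kernel.condition (η I F)).app W t)))
      refine ⟨y, hinj ?_⟩
      rw [← LinearMap.comp_apply, ← stalkLin_comp, kernel.lift_ι]
      refine hy.trans ?_
      exact (stalkLin_germ (kernel.ι (η I F)) x hxW t).symm
  exact ⟨asIso l⟩

variable (hI : I ^ 2 = ⊥)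

include hI in
theorem mul_ker (U : X.Opens) (hU : IsAffineOpen U) :
    RingHom.ker (I.subschemeι.app U).hom * RingHom.ker (I.subschemeι.app U).hom = ⊥ := by
  have h : (I * I).ideal ⟨U, hU⟩ = (⊥ : X.IdealSheafData).ideal ⟨U, hU⟩ := by rw [← pow_two, hI]
  rw [show RingHom.ker (I.subschemeι.app U).hom = I.ideal ⟨U, hU⟩ from I.ker_subschemeι_app ⟨U, hU⟩]
  exact h

include hI in
theorem app_kernel_mem (F : X.Modules) [Coh.IsQCoh F] {U : X.Opens} (hU : IsAffineOpen U)
    {a : Γ(X, U)} (ha : a ∈ RingHom.ker (I.subschemeι.app U).hom) {v : Γ(F, U)} (hv : (η I F).app U v = 0) :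
    a • v = 0 := by
  have h := Submodule.smul_mem_smul ha ((app_η_eq_zero_iff I F hU v).1 hv)
  rwa [← mul_smul, mul_ker I hI U hU, Submodule.bot_smul, Submodule.mem_bot] at h

include hI in
/-- The kernel of restriction is a module on the closed subscheme. -/
theorem exists_kernel_push (F : X.Modules) (hF : FlatMod.IsFinLocFree F) :
    Nonempty ((Scheme.Modules.pushforward I.subschemeι).obj
      (CohB1.tensorMod ((Scheme.Modules.pullback I.subschemeι).obj (ClSub.idealMod I))
        ((Scheme.Modules.pullback I.subschemeι).obj F)) ≅ kernel (η I F)) := by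
  haveI := (isQCoh_and_isFP_of_isFinLocFree F hF).1
  haveI : Coh.IsQCoh ((Scheme.Modules.pullback I.subschemeι).obj F) := PullbackMod.isQCoh_pullback _ _
  haveI : Coh.IsQCoh ((Scheme.Modules.pushforward I.subschemeι).obj ((Scheme.Modules.pullback I.subschemeι).obj F)) :=
    QCohLib.isQCoh_pushforward _ _
  haveI : Coh.IsQCoh (kernel (η I F)) := (QCohLib.isQCoh_image (M := F) (N := (Scheme.Modules.pushforward I.subschemeι).obj ((Scheme.Modules.pullback I.subschemeι).obj F)) (η I F) inferInstance inferInstance).1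
  obtain ⟨e⟩ := exists_kernel_iso I F hF
  have hk : ClSub.KilledByIdeal I.subschemeι.ker (kernel (η I F)) := fun U a ha m => by
    refine RelTildeLib.app_injective_of_mono (kernel.ι (η I F)) U.1 ?_
    rw [map_zero]
    refine (Scheme.Modules.Hom.app_smul (kernel.ι (η I F)) a m).trans ?_
    rw [Scheme.Hom.ker_apply] at ha
    exact app_kernel_mem I hI F U.2 ha (congr($(kernel.condition (η I F)).app U.1 m))
  obtain ⟨e'⟩ := ClSubLib.exists_iso_push_of_killed I.subschemeι (kernel (η I F)) hk
  exact ⟨(Scheme.Modules.pushforward I.subschemeι).mapIso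
    ((AmpleLib.pullTensor I.subschemeι (ClSub.idealMod I) F).symm ≪≫
      (Scheme.Modules.pullback I.subschemeι).mapIso e) ≪≫ e'⟩

end Groth.Agent.ModLiftLib
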