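import Groth.Agent.ModLiftLib.Basic
import Groth.Agent.DCohLib.ClosedPush

/-!
# Lifting homomorphisms along a square zero thickening
-/

set_option autoImplicit false
set_option backward.isDefEq.respectTransparency false
set_option linter.style.haveILetI false

universe u v w

open CategoryTheory CategoryTheory.Limits AlgebraicGeometry TopologicalSpace Opposite
open Groth.Agent.PullbackMod

noncomputable section

namespace Groth.Agent.ModLiftLib

section Abelian

variable {C : Type u} [Category.{v} C] [Abelian C] [HasExt.{w} C]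

/-- An extension whose first extension group vanishes has a section. -/
theorem exists_section {S : ShortComplex C} (hS : S.ShortExact) [Subsingleton (Abelian.Ext.{w} S.X₃ S.X₁ 1)] :
    ∃ σ : S.X₃ ⟶ S.X₂, σ ≫ S.g = 𝟙 S.X₃ := by
  obtain ⟨x, hx⟩ := Abelian.Ext.covariant_sequence_exact₃ S.X₃ hS (Abelian.Ext.mk₀ (𝟙 S.X₃)) (zero_add 1)
    (Subsingleton.elim _ _)
  obtain ⟨σ, rfl⟩ := Abelian.Ext.homEquiv₀.symm.surjective x
  refine ⟨σ, Abelian.Ext.homEquiv₀.symm.injective ?_⟩
  exact (Abelian.Ext.mk₀_comp_mk₀ σ S.g).symm.trans hx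

theorem subsingleton_ext_of_iso {P P' Q Q' : C} (a : P ≅ P') (b : Q ≅ Q') (n : ℕ)
    [Subsingleton (Abelian.Ext.{w} P Q n)] : Subsingleton (Abelian.Ext.{w} P' Q' n) := by
  refine Function.Injective.subsingleton (f := fun x : Abelian.Ext.{w} P' Q' n =>
    ((Abelian.Ext.mk₀ a.hom).comp x (zero_add n)).comp (Abelian.Ext.mk₀ b.inv) (add_zero n)) ?_
  refine Function.LeftInverse.injective (g := fun x =>
    ((Abelian.Ext.mk₀ a.inv).comp x (zero_add n)).comp (Abelian.Ext.mk₀ b.hom) (add_zero n)) fun x => ?_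
  simp [← Abelian.Ext.comp_assoc_of_second_deg_zero, ← Abelian.Ext.comp_assoc_of_third_deg_zero,
    Abelian.Ext.comp_assoc_of_third_deg_zero, Abelian.Ext.mk₀_comp_mk₀]

end Abelian

variable {X : Scheme.{u}} {I : X.IdealSheafData} (hI : I ^ 2 = ⊥) {E F : X.Modules}

include hI in
theorem exists_lift (hE : FlatMod.IsFinLocFree E) (hF : FlatMod.IsFinLocFree F) [HasExt.{u} I.subscheme.Modules]
    (h1 : Subsingleton (Abelian.Ext.{u} ((Scheme.Modules.pullback I.subschemeι).obj E)
      (CohB1.tensorMod ((Scheme.Modules.pullback I.subschemeι).obj (ClSub.idealMod I))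
        ((Scheme.Modules.pullback I.subschemeι).obj F)) 1))
    (u₀ : (Scheme.Modules.pullback I.subschemeι).obj E ⟶ (Scheme.Modules.pullback I.subschemeι).obj F) :
    ∃ u : E ⟶ F, (Scheme.Modules.pullback I.subschemeι).map u = u₀ := by
  let i := I.subschemeι
  let adj := Scheme.Modules.pullbackPushforwardAdjunction i
  haveI := (isQCoh_and_isFP_of_isFinLocFree F hF).1
  haveI := epi_η I F
  let N := CohB1.tensorMod ((Scheme.Modules.pullback i).obj (ClSub.idealMod I)) ((Scheme.Modules.pullback i).obj F)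
  obtain ⟨e⟩ := exists_kernel_push I hI F hF
  let b : E ⟶ (Scheme.Modules.pushforward i).obj ((Scheme.Modules.pullback i).obj F) :=
    adj.unit.app E ≫ (Scheme.Modules.pushforward i).map u₀
  let k : (Scheme.Modules.pushforward i).obj N ⟶ F := e.hom ≫ kernel.ι (η I F)
  have hk : k ≫ η I F = 0 := by simp [k]
  let f' : (Scheme.Modules.pushforward i).obj N ⟶ Limits.pullback (η I F) b :=
    pullback.lift k 0 (by rw [hk, zero_comp])
  have hf1 : f' ≫ pullback.fst (η I F) b = k := pullback.lift_fst _ _ _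
  have hf2 : f' ≫ pullback.snd (η I F) b = 0 := pullback.lift_snd _ _ _
  haveI : Mono k := mono_comp _ _
  haveI : Mono f' := mono_of_mono_fac hf1
  let S : ShortComplex X.Modules := ShortComplex.mk f' (pullback.snd (η I F) b) hf2
  have hSe : S.Exact := by
    refine ShortComplex.exact_of_f_is_kernel S (KernelFork.IsLimit.ofι _ _
      (fun z hz => kernel.lift (η I F) (z ≫ pullback.fst (η I F) b)
        (by rw [Category.assoc, pullback.condition, ← Category.assoc, hz, zero_comp]) ≫ e.inv)
      (fun z hz => ?_) (fun z hz m hm => ?_))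
    · refine pullback.hom_ext ?_ ?_
      · rw [Category.assoc, hf1]; simp [k]
      · rw [Category.assoc, hf2, comp_zero]; exact hz.symm
    · rw [← cancel_mono k, ← hf1, ← Category.assoc, hm]
      simp [hf1, k]
  have hS : S.ShortExact := { exact := hSe, mono_f := ‹Mono f'›, epi_g := inferInstanceAs (Epi (pullback.snd _ _)) }
  have hS₀ := DCohLib.shortExact_pullback_of_isFlat i S hS (fun x => isFlat_of_isFinLocFree E hE x)
  haveI := DCohLib.isIso_counit_closedImmersion i N
  haveI : Subsingleton (Abelian.Ext.{u} (S.map (Scheme.Modules.pullback i)).X₃ (S.map (Scheme.Modules.pullback i)).X₁ 1) :=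
    @subsingleton_ext_of_iso _ _ _ _ _ _ _ _ (Iso.refl _) (asIso (adj.counit.app N)).symm 1 h1
  obtain ⟨σ, hσ⟩ := exists_section hS₀
  haveI : Mono (S.map (Scheme.Modules.pullback i)).f := hS₀.mono_f
  let spl₀ := ShortComplex.Splitting.ofExactOfSection _ hS₀.exact σ hσ inferInstance
  let r' : Limits.pullback (η I F) b ⟶ (Scheme.Modules.pushforward i).obj N :=
    adj.unit.app _ ≫ (Scheme.Modules.pushforward i).map (spl₀.r ≫ adj.counit.app N)
  have hr : f' ≫ r' = 𝟙 _ := by
    rw [← adj.right_triangle_components N]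
    show f' ≫ adj.unit.app _ ≫ (Scheme.Modules.pushforward i).map (spl₀.r ≫ adj.counit.app N) = _
    rw [← Category.assoc,
      show f' ≫ adj.unit.app _ = adj.unit.app _ ≫ (Scheme.Modules.pushforward i).map ((Scheme.Modules.pullback i).map f') from
        (adj.unit.naturality f'),
      Category.assoc, ← Functor.map_comp, ← Category.assoc,
      show (Scheme.Modules.pullback i).map f' ≫ spl₀.r = 𝟙 _ from spl₀.f_r, Category.id_comp]
  let spl := ShortComplex.Splitting.ofExactOfRetraction S hSe r' hr hS.epi_g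
  refine ⟨spl.s ≫ pullback.fst (η I F) b, (adj.homEquiv E _).injective ?_⟩
  rw [adj.homEquiv_unit, adj.homEquiv_unit]
  show _ = b
  refine (adj.unit.naturality (spl.s ≫ pullback.fst (η I F) b)).symm.trans ?_
  show (spl.s ≫ pullback.fst (η I F) b) ≫ η I F = b
  rw [Category.assoc, pullback.condition, ← Category.assoc,
    show spl.s ≫ pullback.snd (η I F) b = 𝟙 _ from spl.s_g, Category.id_comp]

theorem comp_η_eq_zero (d : E ⟶ F) (hd : (Scheme.Modules.pullback I.subschemeι).map d = 0) : d ≫ η I F = 0 := by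
  refine ((Scheme.Modules.pullbackPushforwardAdjunction I.subschemeι).unit.naturality d).trans ?_
  show _ ≫ (Scheme.Modules.pushforward I.subschemeι).map ((Scheme.Modules.pullback I.subschemeι).map d) = 0
  rw [hd, Functor.map_zero, comp_zero]

include hI in
theorem eq_of_map_eq (hF : FlatMod.IsFinLocFree F)
    (h0 : Subsingleton ((Scheme.Modules.pullback I.subschemeι).obj E ⟶
      CohB1.tensorMod ((Scheme.Modules.pullback I.subschemeι).obj (ClSub.idealMod I))
        ((Scheme.Modules.pullback I.subschemeι).obj F)))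
    (u u' : E ⟶ F) (h : (Scheme.Modules.pullback I.subschemeι).map u = (Scheme.Modules.pullback I.subschemeι).map u') :
    u = u' := by
  obtain ⟨e⟩ := exists_kernel_push I hI F hF
  have hd : (u - u') ≫ η I F = 0 := comp_η_eq_zero _ (by rw [Functor.map_sub, h, sub_self])
  have h2 := ((Scheme.Modules.pullbackPushforwardAdjunction I.subschemeι).homEquiv E _).subsingleton_congr.1 h0
  have h3 : kernel.lift _ _ hd ≫ e.inv = 0 := h2.elim _ _
  have h4 : kernel.lift _ _ hd = 0 := by rw [← cancel_mono e.inv, h3, zero_comp]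
  rw [← sub_eq_zero, ← kernel.lift_ι _ _ hd, h4, zero_comp]

include hI in
theorem isIso_of_map_eq_id (hE : FlatMod.IsFinLocFree E) (w : E ⟶ E)
    (h : (Scheme.Modules.pullback I.subschemeι).map w = 𝟙 _) : IsIso w := by
  haveI := (isQCoh_and_isFP_of_isFinLocFree E hE).1
  let d := w - 𝟙 E
  have hd : d ≫ η I E = 0 := comp_η_eq_zero d (by rw [Functor.map_sub, h, CategoryTheory.Functor.map_id, sub_self])
  have hdd : d ≫ d = 0 := FormalSys.hom_ext_affine fun U hU s => by
    show d.app U (d.app U s) = 0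
    refine Submodule.smul_induction_on ((app_η_eq_zero_iff I E hU _).1 congr($(hd).app U s))
      (fun a ha m _ => ?_) fun a b ha hb => by rw [map_add, ha, hb, add_zero]
    rw [Scheme.Modules.Hom.app_smul]
    exact app_kernel_mem I hI E hU ha congr($(hd).app U m)
  refine ⟨⟨𝟙 E - d, ?_, ?_⟩⟩
  · rw [show w = 𝟙 E + d by simp [d]]
    simp [Preadditive.add_comp, Preadditive.comp_sub, hdd]
  · rw [show w = 𝟙 E + d by simp [d]]
    simp [Preadditive.sub_comp, Preadditive.comp_add, hdd]

include hI in
theorem nonempty_iso (hE : FlatMod.IsFinLocFree E) (hF : FlatMod.IsFinLocFree F) [HasExt.{u} I.subscheme.Modules]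
    (e : (Scheme.Modules.pullback I.subschemeι).obj E ≅ (Scheme.Modules.pullback I.subschemeι).obj F)
    (h1 : Subsingleton (Abelian.Ext.{u} ((Scheme.Modules.pullback I.subschemeι).obj E)
      (CohB1.tensorMod ((Scheme.Modules.pullback I.subschemeι).obj (ClSub.idealMod I))
        ((Scheme.Modules.pullback I.subschemeι).obj E)) 1)) : Nonempty (E ≅ F) := by
  have hEF := @subsingleton_ext_of_iso _ _ _ _ _ _ _ _ (Iso.refl _) (AmpleLib.tIso (Iso.refl _) e) 1 h1
  have hFE := @subsingleton_ext_of_iso _ _ _ _ _ _ _ _ e (Iso.refl _) 1 h1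
  obtain ⟨u, hu⟩ := exists_lift hI hE hF hEF e.hom
  obtain ⟨v, hv⟩ := exists_lift hI hF hE hFE e.inv
  haveI := isIso_of_map_eq_id hI hE (u ≫ v) (by rw [Functor.map_comp, hu, hv, e.hom_inv_id])
  haveI := isIso_of_map_eq_id hI hF (v ≫ u) (by rw [Functor.map_comp, hu, hv, e.inv_hom_id])
  haveI : Mono u := mono_of_mono u v
  haveI : Epi u := epi_of_epi v u
  haveI : IsIso u := isIso_of_mono_of_epi u
  exact ⟨asIso u⟩

end Groth.Agent.ModLiftLib
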